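import Cfsg.Agent.OddHalf.D4.Spor.Sheet
import Cfsg.Agent.KFacts.OutTwo

/-!
# The fields of `Spor.Sheet` about `Aut(X)` from `NoOut2 X` (helper927)
-/

set_option autoImplicit false

namespace Cfsg.Agent.KFacts.CoInv.SheetTwo

open Cfsg.Agent.OddHalf.D4.Spor Cfsg.Agent.KFacts.OutTwo Subgroup

variable {X : Type*} [Group X]

theorem inn_iff (α : MulAut X) : Inn α ↔ α ∈ (MulAut.conj : X →* MulAut X).range :=
  ⟨fun ⟨k, hk⟩ => ⟨k, hk.symm⟩, fun ⟨k, hk⟩ => ⟨k, hk.symm⟩⟩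

/-- 2-elements of `Aut(X)` are inner -/
theorem inn_of_pow (h : NoOut2 X) : ∀ (n : ℕ) (α : MulAut X), α ^ 2 ^ n ∈ (MulAut.conj : X →* MulAut X).range →
    α ∈ (MulAut.conj : X →* MulAut X).range := by
  intro n
  induction n with
  | zero => intro α hα; rwa [pow_zero, pow_one] at hα
  | succ n ih =>
    intro α hα
    apply h
    apply ih
    rwa [← pow_two, ← pow_mul, ← pow_succ']

theorem inn_of_isPGroup (h : NoOut2 X) (α : MulAut X) (hα : IsPGroup 2 (zpowers α)) : Inn α := by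
  rw [inn_iff]
  obtain ⟨n, hn⟩ := hα ⟨α, mem_zpowers α⟩
  have hn' : α ^ 2 ^ n = 1 := congrArg Subtype.val hn
  exact inn_of_pow h n α (by rw [hn']; exact one_mem _)

theorem out_odd [Finite X] (h : NoOut2 X) : ¬ 2 ∣ (MulAut.conj : X →* MulAut X).range.index := by
  intro h2
  have hn : ((MulAut.conj : X →* MulAut X).range).Normal := by
    constructor
    rintro _ ⟨k, rfl⟩ β
    refine ⟨β k, ?_⟩
    ext x
    simp
  have : Finite (MulAut X) := by infer_instance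
  have : Fact (Nat.Prime 2) := ⟨Nat.prime_two⟩
  rw [Subgroup.index_eq_card] at h2
  obtain ⟨q, hq⟩ := exists_prime_orderOf_dvd_card' 2 h2
  obtain ⟨α, rfl⟩ := QuotientGroup.mk_surjective q
  have h3 : α * α ∈ (MulAut.conj : X →* MulAut X).range := by
    rw [← QuotientGroup.eq_one_iff, QuotientGroup.mk_mul, ← pow_two]
    have := pow_orderOf_eq_one (α : MulAut X ⧸ (MulAut.conj : X →* MulAut X).range)
    rwa [hq] at this
  have h4 := h α h3
  rw [← QuotientGroup.eq_one_iff] at h4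
  rw [h4, orderOf_one] at hq
  norm_num at hq

/-- the sheet from `NoOut2` -/
theorem sheet_of_noOut2 [Finite X] (h : NoOut2 X)
    (hs : ∀ P : Subgroup (MulAut X), ⁅P, P⁆ = P → P ≤ (MulAut.conj : X →* MulAut X).range)
    (z1 : ∀ S : Sylow 2 X, ∀ a ∈ S, a * a = 1 → a ≠ 1 → (∀ s ∈ S, s * a = a * s) →
      ∀ b ∈ S, b * b = 1 → b ≠ 1 → (∀ s ∈ S, s * b = b * s) → a = b)
    (bal : ∀ a : X, a * a = 1 → a ≠ 1 → ∀ I : Subgroup X, (∀ i ∈ I, i * a = a * i) →
      (∀ c : X, c * a = a * c → ∀ i ∈ I, c * i * c⁻¹ ∈ I) → Odd (Nat.card ↥I) → I = ⊥)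
    (hb : ∀ (w : X) (N : Subgroup X), ¬ Bad w N) : Sheet X where
  out := fun h4 => out_odd h (dvd_trans (by norm_num) h4)
  schreier := hs
  sylAut := fun _ α hα _ => inn_of_isPGroup h α hα
  z1 := z1
  bal := bal
  out2 := fun α hα haa => by
    exfalso
    apply hα
    rw [inn_iff]
    apply h
    rw [haa]
    exact one_mem _
  tab := tab_of_not_bad hb

end Cfsg.Agent.KFacts.CoInv.SheetTwo
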