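import Cfsg.Agent.KFacts.CoTwo.Base
import Cfsg.Agent.CoOneType.SignFacts

/-!
# The centraliser in `Spor.Co2` of a dodecad sign change is monomial (helper927)
-/

set_option autoImplicit false
set_option linter.dupNamespace false

namespace Cfsg.Agent.KFacts.CoInv.TwoMono

open Cfsg Cfsg.Agent.SporadicA.GolayBase Cfsg.Agent.SporadicA.GolayPerm
open Cfsg.Agent.SporadicStructure.M24El Cfsg.Agent.SporadicA.Co0Mono
open Cfsg.Agent.Co2Type.Mono Cfsg.Agent.Co2Type.TGroup Cfsg.Agent.Co2Type.TData Cfsg.Agent.Co2Type.FactsD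
open Cfsg.Agent.SporadicStructure.Co0Base (e8 e8_coe)
open Cfsg.Agent.SporadicA.Co1Simple (exists_sign_perm N)
open Cfsg.Agent.CoOneType.SignFacts (sup wt mem_N_of_conj_dodecad)
open scoped Pointwise

/-- the weight of a code word is the number of bits of its mask -/
theorem wt_cd {m : ℕ} (hm : isCode m = true) : wt (cd m) = popcount m := by
  unfold wt sup
  rw [card_eq_popcount, maskOf_support₂, coe_cd hm, maskW_word (isCode_lt hm)]

/-- A monomial element of `Spor.Co2`. -/
theorem mono_of_N {g : Spor.Co2} (h : toCo0 g ∈ N) :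
    ∃ m Q, inE m = true ∧ okP Q = true ∧ Q < 2 ^ 120 ∧ g = mo2 m Q := by
  obtain ⟨c, σ, hcσ⟩ := exists_sign_perm h
  obtain ⟨m, hm, rfl⟩ := exists_cd c
  obtain ⟨Q, hQ, hlt, rfl⟩ := exists_el σ
  have hg : toCo0 g = mo m Q := hcσ
  have hp := (ok_iff.1 hQ).1
  have h0 : toCo0 g • (e8 none + e8 (some 0)) = e8 none + e8 (some 0) := by
    rw [Cfsg.Agent.KFacts.CoTwo.Base.e8_add, smul_nsmul, toCo0_smul]
  have key : ∀ i : GolayPt,
      ((if (el Q : Equiv.Perm GolayPt) none = i then (if m.testBit (idx i) then (-8 : ℤ) else 8) else 0) +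
        if (el Q : Equiv.Perm GolayPt) (some 0) = i then (if m.testBit (idx i) then -8 else 8) else 0) =
      (Pi.single none 8 : GolayPt → ℤ) i + (Pi.single (some 0) 8 : GolayPt → ℤ) i := by
    intro i
    have h1 := congrArg (fun x : leechLattice => (x : GolayPt → ℤ) i) h0
    change ((toCo0 g • (e8 none + e8 (some 0)) : leechLattice) : GolayPt → ℤ) i =
      ((e8 none + e8 (some 0) : leechLattice) : GolayPt → ℤ) i at h1
    rw [smul_add, hg] at h1
    change ((mo m Q • e8 none : leechLattice) : GolayPt → ℤ) i +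
      ((mo m Q • e8 (some 0) : leechLattice) : GolayPt → ℤ) i = ((e8 none : leechLattice) : GolayPt → ℤ) i +
      ((e8 (some 0) : leechLattice) : GolayPt → ℤ) i at h1
    rw [mo_smul_e8 hm, mo_smul_e8 hm, e8_coe, e8_coe] at h1
    exact h1
  have hne : (el Q : Equiv.Perm GolayPt) none ≠ (el Q : Equiv.Perm GolayPt) (some 0) := fun h1 => by
    have := (el Q : Equiv.Perm GolayPt).injective h1
    simp at this
  have k1 := key none
  have k2 := key (some 0)
  rw [Pi.single_eq_same, Pi.single_eq_of_ne (by simp)] at k1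
  rw [Pi.single_eq_same, Pi.single_eq_of_ne (by simp)] at k2
  have b1 : m.testBit (idx none) = false := by
    cases hb : m.testBit (idx none)
    · rfl
    · rw [hb] at k1
      split_ifs at k1 <;> simp_all
  have b2 : m.testBit (idx (some 0)) = false := by
    cases hb : m.testBit (idx (some 0))
    · rfl
    · rw [hb] at k2
      split_ifs at k2 <;> simp_all
  have c12 : ((el Q : Equiv.Perm GolayPt) none = none ∧ (el Q : Equiv.Perm GolayPt) (some 0) = some 0) ∨
      ((el Q : Equiv.Perm GolayPt) none = some 0 ∧ (el Q : Equiv.Perm GolayPt) (some 0) = none) := by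
    rw [b1] at k1
    rw [b2] at k2
    by_cases c1 : (el Q : Equiv.Perm GolayPt) none = none
    · left
      refine ⟨c1, ?_⟩
      by_contra c2
      rw [if_neg (by rw [c1]; simp), if_neg c2] at k2
      norm_num at k2
    · right
      rw [if_neg c1] at k1
      by_cases c2 : (el Q : Equiv.Perm GolayPt) (some 0) = none
      · refine ⟨?_, c2⟩
        by_contra c3
        rw [if_neg c3, if_neg (by rw [c2]; simp)] at k2
        norm_num at k2
      · rw [if_neg c2] at k1
        norm_num at k1
  have conv : ∀ a b : GolayPt, (el Q : Equiv.Perm GolayPt) a = b → papp Q (idx a) = idx b := by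
    intro a b h1
    have h2 := congrArg idx h1
    rw [coe_el hQ, idx_permOf] at h2
    exact h2
  have hP : okP Q = true := by
    refine okP_iff.2 ⟨hQ, ?_⟩
    rcases c12 with ⟨d1, d2⟩ | ⟨d1, d2⟩
    · exact Or.inl ⟨conv _ _ d2, conv _ _ d1⟩
    · exact Or.inr ⟨conv _ _ d2, conv _ _ d1⟩
  have hE : inE m = true := inE_iff.2 ⟨hm, b2, b1⟩
  refine ⟨m, Q, hE, hP, hlt, ?_⟩
  apply toCo0_injective
  rw [hg, toCo0_mo2 hE hP]

/-- An element of `Spor.Co2` commuting with a dodecad sign change is monomial. -/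
theorem mono_of_comm {n : ℕ} (hn : inE n = true) (h12 : popcount n = 12) {g : Spor.Co2}
    (h : g * ge n = ge n * g) :
    ∃ m Q, inE m = true ∧ okP Q = true ∧ Q < 2 ^ 120 ∧ pimg Q n = n ∧ g = mo2 m Q := by
  have hc := isCode_of_inE hn
  have hw : wt (cd n) = 12 := by rw [wt_cd hc, h12]
  have h1 : toCo0 g * signCo0 (cd n) = signCo0 (cd n) * toCo0 g := by
    have h2 := congrArg toCo0 h
    rw [map_mul, map_mul] at h2
    unfold ge at h2
    rw [toCo0_mo2 hn okP_idP] at h2
    have h3 : mo n idP = signCo0 (cd n) := by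
      unfold mo
      rw [el_idP, map_one, mul_one]
    rwa [h3] at h2
  obtain ⟨m, Q, hm, hQ, hlt, rfl⟩ := mono_of_N (mem_N_of_conj_dodecad _ _ hw hw _ h1)
  refine ⟨m, Q, hm, hQ, hlt, ?_, rfl⟩
  unfold ge at h
  rw [mo2_conj_E hm hn hQ hlt, mo2_mul_left hn hm hQ, mo2_mul_left (inE_pimg hQ hn) hm hQ] at h
  have h4 := (mo2_inj (inE_xor (inE_pimg hQ hn) hm) (inE_xor hn hm) hQ hQ hlt hlt h).1
  exact Nat.xor_left_inj.1 h4

/-! ### permutations fixing `E` -/

/-- masks of weight 8 or 16 separating the points -/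
def fl : List ℕ := [5598424, 8271804, 3328320, 6110590, 3216208, 5268006, 2408162, 3130320]

theorem fl_ok : (fl.all fun e => inE e && !(Nat.beq (popcount (Nat.xor e mv)) (popcount e))) = true := by
  decide +kernel

/-- the numbers with the same bits in all masks of the list -/
def sepB (i j : ℕ) : Bool := fl.all fun e => e.testBit i == e.testBit j

theorem fl_sep : ((List.range 24).all fun i => (List.range 24).all fun j =>
    !(sepB i j) || Nat.beq i j || (Nat.beq i 0 && Nat.beq j 23) || (Nat.beq i 23 && Nat.beq j 0)) = true := by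
  decide +kernel

/-- the transposition of the points 0 and 23 -/
def tr23 : ℕ := pack [23, 1, 2, 3, 4, 5, 6, 7, 8, 9, 10, 11, 12, 13, 14, 15, 16, 17, 18, 19, 20, 21, 22, 0]

theorem tr23_bad : ok tr23 = false ∧ Nat.blt tr23 (2 ^ 120) = true ∧
    ((List.range 24).all fun i => Nat.beq (papp tr23 i) (if i = 0 then 23 else if i = 23 then 0 else i)) = true := by
  decide +kernel

theorem idP_papp : ((List.range 24).all fun i => Nat.beq (papp idP i) i) = true := by decide +kernel

theorem idP_of_fl {Q : ℕ} (hQ : ok Q = true) (hlt : Q < 2 ^ 120) (h : ∀ e ∈ fl, pimg Q e = e) : Q = idP := by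
  have hp := (ok_iff.1 hQ).1
  have key : ∀ i, i < 24 → papp Q i = i ∨ (i = 0 ∧ papp Q i = 23) ∨ (i = 23 ∧ papp Q i = 0) := by
    intro i hi
    have hj : papp Q i < 24 := papp_lt hp hi
    have h1 : sepB i (papp Q i) = true := by
      unfold sepB
      rw [List.all_eq_true]
      intro e he
      have h2 := testBit_pimg_papp hp e hi
      rw [h e he] at h2
      rw [h2]
      simp
    have h3 := List.all_eq_true.1 (List.all_eq_true.1 fl_sep i (List.mem_range.2 hi)) _ (List.mem_range.2 hj)
    rw [h1] at h3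
    simp only [Bool.not_true, Bool.false_or, Bool.or_eq_true, Bool.and_eq_true, Nat.beq_eq] at h3
    omega
  by_cases h0 : papp Q 0 = 0
  · apply eq_of_papp 24 Q idP (by norm_num at hlt ⊢; exact hlt) (by decide +kernel)
    intro i hi
    rw [Nat.eq_of_beq_eq_true (List.all_eq_true.1 idP_papp i (List.mem_range.2 hi))]
    rcases key i hi with h1 | ⟨rfl, h1⟩ | ⟨rfl, h1⟩
    · exact h1
    · exact h0
    · exfalso
      have := papp_injOn hp (show 0 < 24 by norm_num) (show 23 < 24 by norm_num) (by rw [h0, h1])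
      omega
  · exfalso
    have h0' : papp Q 0 = 23 := by
      rcases key 0 (by norm_num) with h1 | ⟨-, h1⟩ | ⟨h1, -⟩
      · exact absurd h1 h0
      · exact h1
      · omega
    have h23 : papp Q 23 = 0 := by
      rcases key 23 (by norm_num) with h1 | ⟨h1, -⟩ | ⟨-, h1⟩
      · have := papp_injOn hp (show 0 < 24 by norm_num) (show 23 < 24 by norm_num) (by rw [h0', h1])
        omega
      · omega
      · exact h1
    obtain ⟨b1, b2, b3⟩ := tr23_bad
    have : Q = tr23 := by
      apply eq_of_papp 24 Q tr23 (by norm_num at hlt ⊢; exact hlt) (by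
        have := Nat.blt_eq.mp b2
        norm_num at this ⊢; exact this)
      intro i hi
      rw [Nat.eq_of_beq_eq_true (List.all_eq_true.1 b3 i (List.mem_range.2 hi))]
      rcases key i hi with h1 | ⟨rfl, h1⟩ | ⟨rfl, h1⟩
      · by_cases c0 : i = 0
        · rw [if_pos c0, c0, h0']
        · by_cases c1 : i = 23
          · rw [if_neg c0, if_pos c1, c1, h23]
          · rw [if_neg c0, if_neg c1, h1]
      · rw [if_pos rfl, h1]
      · rw [if_neg (by norm_num), if_pos rfl, h1]
    rw [this, b1] at hQ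
    exact Bool.noConfusion hQ

/-- A monomial element acting trivially on `E` modulo `mv` lies in `E`. -/
theorem idP_of_mod {Q : ℕ} (hQ : okP Q = true) (hlt : Q < 2 ^ 120)
    (h : ∀ e, inE e = true → pimg Q e = e ∨ pimg Q e = e ^^^ mv) : Q = idP := by
  apply idP_of_fl (ok_of_okP hQ) hlt
  intro e he
  have h1 := List.all_eq_true.1 fl_ok e he
  rw [Bool.and_eq_true, Bool.not_eq_true'] at h1
  rcases h e h1.1 with h2 | h2
  · exact h2
  · exfalso
    have h3 := Cfsg.Agent.SporadicA.OctadStab.popcount_pimg (isPerm_of_ok (ok_of_okP hQ)) e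
    rw [h2] at h3
    have h4 : Nat.beq (popcount (Nat.xor e mv)) (popcount e) = true := Nat.beq_eq.mpr h3
    rw [h4] at h1
    exact Bool.noConfusion h1.2

end Cfsg.Agent.KFacts.CoInv.TwoMono
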