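import Cfsg.Agent.KFacts.CoInv.ThreeShape
import Cfsg.Agent.KFacts.CoInv.TwoMono

/-!
# Normal forms of the involutions of the stabiliser of a vector of norm 48 (helper927)

`v` of norm 48, `w` an involution of `Co0` fixing `v`. Then `(w, v)` is conjugate to `(ε_d, 2·1_{dᶜ})`, `d` a fixed
dodecad, or to `(ε_o, v₀)`, `o` a fixed octad, `v₀` a fixed vector of shape `(4, 2⁸)`.
-/

set_option autoImplicit false

namespace Cfsg.Agent.KFacts.CoInv.ThreeNorm

open Cfsg Cfsg.Agent.SporadicA.GolayBase Cfsg.Agent.SporadicA.GolayPerm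
open Cfsg.Agent.SporadicStructure.M24El Cfsg.Agent.SporadicA.Co0Mono
open Cfsg.Agent.Co2Type.Mono
open Cfsg.Agent.CoOneType.SignFacts (sup wt mem_sup notMem_sup sign_fixed_iff)
open Cfsg.Agent.KFacts.MulCo.OctStab (sup_wordPerm exists_pair sup_inj)
open Cfsg.Agent.KFacts.CoInv.TwoMono (wt_cd)
open scoped Pointwise

/-! ### signs -/

/-- the words `e.2` of the list contain the point `e.1` and no other point of the list -/
def chkW (L : List (ℕ × ℕ)) : Bool :=
  L.all fun e => Nat.blt e.1 24 && isCode e.2 && e.2.testBit e.1 &&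
    L.all fun k => Nat.beq k.1 e.1 || !(e.2.testBit k.1)

theorem cd_apply {m : ℕ} (hm : isCode m = true) (p : GolayPt) :
    ((cd m : golayCode) : GolayPt → ZMod 2) p = if m.testBit (idx p) then 1 else 0 := by
  rw [coe_cd hm, word_apply]

theorem exists_sign {L : List (ℕ × ℕ)} (h : chkW L = true) (x t : GolayPt → ℤ)
    (hx : ∀ e ∈ L, x (pt e.1) = t (pt e.1) ∨ x (pt e.1) = -t (pt e.1)) :
    ∃ c : golayCode, ∀ e ∈ L, signMap c x (pt e.1) = t (pt e.1) := by
  have key : ∀ L' : List (ℕ × ℕ), (∀ e ∈ L', e ∈ L) → ∃ c : golayCode,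
      (∀ e ∈ L', signMap c x (pt e.1) = t (pt e.1)) ∧
      ∀ e ∈ L, signMap c x (pt e.1) = t (pt e.1) ∨ signMap c x (pt e.1) = -t (pt e.1) := by
    intro L'
    induction L' with
    | nil =>
      intro _
      refine ⟨0, fun e he => absurd he (List.not_mem_nil), fun e he => ?_⟩
      have e0 : signMap ((0 : golayCode) : GolayPt → ZMod 2) x = x := signMap_zero x
      rw [e0]
      exact hx e he
    | cons a l ih =>
      intro hsub
      obtain ⟨c, h1, h2⟩ := ih fun e he => hsub e (List.mem_cons_of_mem _ he)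
      have haL := hsub a (List.mem_cons_self ..)
      by_cases hc : signMap c x (pt a.1) = t (pt a.1)
      · refine ⟨c, fun e he => ?_, h2⟩
        rcases List.mem_cons.1 he with rfl | he
        · exact hc
        · exact h1 e he
      · have hm := List.all_eq_true.1 h a haL
        simp only [Bool.and_eq_true] at hm
        obtain ⟨⟨⟨ha24, hcode⟩, hbit⟩, hoth⟩ := hm
        have hval : ∀ e ∈ L, signMap ((c + cd a.2 : golayCode) : GolayPt → ZMod 2) x (pt e.1) =
            (if e.1 = a.1 then -1 else 1) * signMap c x (pt e.1) := by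
          intro e he
          have he24 : e.1 < 24 := by
            have := List.all_eq_true.1 h e he
            simp only [Bool.and_eq_true] at this
            exact Nat.blt_eq.mp this.1.1.1
          have hb : a.2.testBit e.1 = decide (e.1 = a.1) := by
            have h3 := List.all_eq_true.1 hoth e he
            by_cases hea : e.1 = a.1
            · rw [hea, hbit]; simp
            · rw [Bool.or_eq_true, Nat.beq_eq, Bool.not_eq_true'] at h3
              rw [h3.resolve_left hea]
              simp [hea]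
          rw [signMap_apply, signMap_apply]
          have e1 : ((c + cd a.2 : golayCode) : GolayPt → ZMod 2) (pt e.1) =
              (c : GolayPt → ZMod 2) (pt e.1) + ((cd a.2 : golayCode) : GolayPt → ZMod 2) (pt e.1) := rfl
          rw [e1, sgn_add, cd_apply hcode, idx_pt he24, hb]
          by_cases hea : e.1 = a.1
          · simp [hea, sgn_one]
          · simp [hea, sgn_zero]
        refine ⟨c + cd a.2, fun e he => ?_, fun e he => ?_⟩
        · rcases List.mem_cons.1 he with rfl | he
          · rw [hval _ haL, if_pos rfl, (h2 _ haL).resolve_left hc]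
            ring
          · have heL := hsub e (List.mem_cons_of_mem _ he)
            rw [hval e heL, if_neg, one_mul, h1 e he]
            intro hea
            apply hc
            rw [← hea]
            exact h1 e he
        · rw [hval e he]
          rcases h2 e he with h3 | h3 <;> rw [h3] <;> split_ifs <;> simp
  obtain ⟨c, h1, -⟩ := key L fun e he => he
  exact ⟨c, h1⟩

/-! ### the dodecad form -/

/-- the dodecad -/
def d0 : ℕ := 28637

theorem d0_ok : (isCode d0 && Nat.beq (popcount d0) 12) = true := by decide +kernel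

theorem code_d0 : isCode d0 = true := by
  have := d0_ok
  rw [Bool.and_eq_true] at this
  exact this.1

theorem wt_d0 : wt (cd d0) = 12 := by
  have := d0_ok
  rw [Bool.and_eq_true] at this
  rw [wt_cd code_d0]
  exact Nat.eq_of_beq_eq_true this.2

def W12 : List (ℕ × ℕ) := [(5, 10558), (12, 5279), (15, 36294), (16, 69395), (17, 140167), (18, 272595),
  (19, 525274), (20, 1060490), (21, 2106966), (22, 4196943), (23, 8398155)]

theorem chk12 : chkW W12 = true := by decide +kernel

/-- the vector `2` on the complement of the dodecad -/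
def x0 : GolayPt → ℤ := fun p => if d0.testBit (idx p) then 0 else 2

theorem pts12 : ∀ p : GolayPt, d0.testBit (idx p) = false → p ≠ pt 1 → ∃ e ∈ W12, pt e.1 = p := by decide +kernel

theorem sum_x0 (s : ℤ) : ∑ i, (if i = pt 1 then s else x0 i) = s + 22 := by
  rw [Finset.sum_ite, Finset.sum_const, nsmul_eq_mul]
  have h1 : (Finset.univ.filter fun i : GolayPt => i = pt 1).card = 1 := by decide
  have h2 : ∑ i ∈ Finset.univ.filter (fun i : GolayPt => ¬ i = pt 1), x0 i = 22 := by decide +kernel
  rw [h1, h2]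
  ring

theorem sup_cd {m : ℕ} (hm : isCode m = true) (p : GolayPt) : p ∈ sup (cd m) ↔ m.testBit (idx p) = true := by
  rw [mem_sup, cd_apply hm]
  cases m.testBit (idx p) <;> simp

/-- an element with trace 0 -/
theorem norm_zero {v : leechLattice} (hv : sqNorm (v : GolayPt → ℤ) = 48) {w : Co0} (hw : w • v = v) {g : Co0}
    {c : golayCode} (hg : g * w * g⁻¹ = signCo0 c) (hc : wt c = 12) :
    ∃ h : Co0, h * w * h⁻¹ = signCo0 (cd d0) ∧ ((h • v : leechLattice) : GolayPt → ℤ) = x0 := by
  obtain ⟨σ, hσ⟩ := Cfsg.Agent.CoOneType.InvMain.exists_perm_dodecad (c := c) (d := cd d0)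
    ⟨Cfsg.Agent.CoOneType.SignFacts.sup_mem c, hc⟩ ⟨Cfsg.Agent.CoOneType.SignFacts.sup_mem _, wt_d0⟩
  -- the dodecad
  set g1 : Co0 := permCo0 σ * g with hg1
  have h1 : g1 * w * g1⁻¹ = signCo0 (cd d0) := by
    rw [← hσ, ← perm_mul_sign_mul_inv, ← hg, hg1]
    group
  set y : leechLattice := g1 • v with hy
  have hyn : sqNorm (y : GolayPt → ℤ) = 48 := by rw [hy, sqNorm_smul, hv]
  have hyf : signCo0 (cd d0) • y = y := by
    rw [← h1, hy, ← mul_smul, inv_mul_cancel_right, mul_smul, hw]
  have hy0 := (sign_fixed_iff _ _).1 hyf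
  obtain ⟨-, hy2⟩ := ThreeShape.dodecad y.2 hyn hy0 wt_d0
  -- signs
  obtain ⟨e, he⟩ := exists_sign chk12 (y : GolayPt → ℤ) x0 (by
    intro a ha
    have hb : d0.testBit (idx (pt a.1)) = false := by
      revert ha
      revert a
      decide +kernel
    have h2 : x0 (pt a.1) = 2 := by
      unfold x0
      rw [hb]
      rfl
    rw [h2]
    apply hy2
    rw [sup_cd code_d0, hb]
    simp)
  refine ⟨signCo0 e * g1, ?_, ?_⟩
  · have : signCo0 e * g1 * w * (signCo0 e * g1)⁻¹ = signCo0 e * (g1 * w * g1⁻¹) * (signCo0 e)⁻¹ := by group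
    rw [this, h1, ← signCo0_add, add_comm, signCo0_add, mul_inv_cancel_right]
  · set z : leechLattice := (signCo0 e * g1) • v with hz
    have hzv : (z : GolayPt → ℤ) = signMap e (y : GolayPt → ℤ) := by
      rw [hz, mul_smul, ← hy, signCo0_smul]
    have hzn : sqNorm (z : GolayPt → ℤ) = 48 := by rw [hz, sqNorm_smul, hv]
    have hz0 : ∀ i ∈ sup (cd d0), (z : GolayPt → ℤ) i = 0 := by
      intro i hi
      rw [hzv, signMap_apply, hy0 i hi, mul_zero]
    obtain ⟨h8, hz2⟩ := ThreeShape.dodecad z.2 hzn hz0 wt_d0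
    have hne : ∀ i, i ≠ pt 1 → (z : GolayPt → ℤ) i = x0 i := by
      intro i hi
      by_cases hb : d0.testBit (idx i) = true
      · have : x0 i = 0 := by
          unfold x0
          rw [hb]
          rfl
        rw [this]
        exact hz0 i ((sup_cd code_d0 i).2 hb)
      · rw [Bool.not_eq_true] at hb
        obtain ⟨a, ha, rfl⟩ := pts12 i hb hi
        rw [hzv]
        exact he a ha
    have h1' : (z : GolayPt → ℤ) (pt 1) = 2 ∨ (z : GolayPt → ℤ) (pt 1) = -2 := by
      apply hz2
      rw [sup_cd code_d0]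
      decide +kernel
    have hsum : ∑ i, (z : GolayPt → ℤ) i = (z : GolayPt → ℤ) (pt 1) + 22 := by
      rw [← sum_x0]
      refine Finset.sum_congr rfl fun i _ => ?_
      by_cases hi : i = pt 1
      · rw [if_pos hi, hi]
      · rw [if_neg hi, hne i hi]
    funext i
    by_cases hi : i = pt 1
    · subst hi
      have : x0 (pt 1) = 2 := by decide +kernel
      rw [this]
      rcases h1' with h | h
      · exact h
      · exfalso
        rw [hsum, h] at h8
        norm_num at h8
    · exact hne i hi

/-! ### the octad form -/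

/-- the octad of the sign change, the octad of the vector -/
def o0 : ℕ := 5279
def b0 : ℕ := 1009728

def W8 : List (ℕ × ℕ) := [(11, 36294), (13, 1090380), (14, 1065303), (16, 99029), (17, 1212619), (18, 1312345),
  (19, 525274), (5, 1050548)]

def P8 : List (ℕ × ℕ) := [(5, 984818244535754528103549039458486304), (8, 902552277401698395215794450985259050),
  (9, 926348604677376001990656882754289986), (15, 884623017301741891752736633429040138),
  (20, 650666726111315770962024106916087908), (21, 943929934262385292433613664552200268),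
  (22, 962791024131073713747720593189505066), (23, 227556534368850117480778727666224268)]

theorem ok8 : (chkW W8 && isCode o0 && isCode b0 && Nat.beq (popcount o0) 8 && Nat.beq (popcount b0) 8 &&
    Nat.beq (popcount (Nat.xor b0 o0)) 16 && P8.all fun e => ok e.2 && Nat.beq (pimg e.2 o0) o0 &&
      Nat.beq (pimg e.2 b0) b0 && Nat.beq (papp e.2 e.1) 5) = true := by decide +kernel

/-- the vector `(4, 2⁸)` -/
def v0 : GolayPt → ℤ := fun p => if b0.testBit (idx p) then (if idx p = 6 then -2 else 2) else
  if idx p = 5 then 4 else 0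

theorem pts8 : ∀ p : GolayPt, o0.testBit (idx p) = false → b0.testBit (idx p) = false →
    ∃ e ∈ P8, idx p = e.1 := by decide +kernel

theorem ptsW8 : ∀ p : GolayPt, (b0.testBit (idx p) = true ∨ p = pt 5) → p ≠ pt 6 → ∃ e ∈ W8, pt e.1 = p := by
  decide +kernel

theorem sum_v0 (s : ℤ) : ∑ i, (if i = pt 6 then s else v0 i) = s + 18 := by
  rw [Finset.sum_ite, Finset.sum_const, nsmul_eq_mul]
  have h1 : (Finset.univ.filter fun i : GolayPt => i = pt 6).card = 1 := by decide
  have h2 : ∑ i ∈ Finset.univ.filter (fun i : GolayPt => ¬ i = pt 6), v0 i = 18 := by decide +kernel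
  rw [h1, h2]
  ring

theorem code_o0 : isCode o0 = true := by
  have := ok8
  simp only [Bool.and_eq_true] at this
  exact this.1.1.1.1.1.2

theorem code_b0 : isCode b0 = true := by
  have := ok8
  simp only [Bool.and_eq_true] at this
  exact this.1.1.1.1.2

theorem wt_o0 : wt (cd o0) = 8 := by
  have := ok8
  simp only [Bool.and_eq_true] at this
  rw [wt_cd code_o0]
  exact Nat.eq_of_beq_eq_true this.1.1.1.2

theorem wt_b0 : wt (cd b0) = 8 := by
  have := ok8
  simp only [Bool.and_eq_true] at this
  rw [wt_cd code_b0]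
  exact Nat.eq_of_beq_eq_true this.1.1.2

theorem wt_bo : wt (cd b0 + cd o0) = 16 := by
  have := ok8
  simp only [Bool.and_eq_true] at this
  rw [← cd_xor code_b0 code_o0, wt_cd (isCode_xor code_b0 code_o0)]
  exact Nat.eq_of_beq_eq_true this.1.2

theorem chkW8 : chkW W8 = true := by
  have := ok8
  simp only [Bool.and_eq_true] at this
  exact this.1.1.1.1.1.1

theorem perm8 : ∀ e ∈ P8, ok e.2 = true ∧ pimg e.2 o0 = o0 ∧ pimg e.2 b0 = b0 ∧ papp e.2 e.1 = 5 := by
  have := ok8
  simp only [Bool.and_eq_true] at this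
  intro e he
  have h := List.all_eq_true.1 this.2 e he
  simp only [Bool.and_eq_true, Nat.beq_eq] at h
  exact ⟨h.1.1.1, h.1.1.2, h.1.2, h.2⟩

/-- the shape `(4, 2⁸)` -/
structure Shape (b : golayCode) (p : GolayPt) (x : GolayPt → ℤ) : Prop where
  two : ∀ i ∈ sup b, x i = 2 ∨ x i = -2
  not : p ∉ sup b
  four : x p = 4 ∨ x p = -4
  zero : ∀ i, i ∉ sup b → i ≠ p → x i = 0

theorem Shape.perm {b : golayCode} {p : GolayPt} {x : GolayPt → ℤ} (h : Shape b p x) (m : M24) :
    Shape (wordPerm m b) ((m : Equiv.Perm GolayPt) p) (permMap (m : Equiv.Perm GolayPt) x) := by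
  have hs : ∀ i, i ∈ sup (wordPerm m b) ↔ (m : Equiv.Perm GolayPt).symm i ∈ sup b := by
    intro i
    rw [mem_sup, mem_sup, wordPerm_apply]
  refine ⟨fun i hi => ?_, ?_, ?_, fun i hi hip => ?_⟩
  · rw [permMap_apply]
    exact h.two _ ((hs i).1 hi)
  · rw [hs, Equiv.symm_apply_apply]
    exact h.not
  · rw [permMap_apply, Equiv.symm_apply_apply]
    exact h.four
  · rw [permMap_apply]
    apply h.zero _ (fun h1 => hi ((hs i).2 h1))
    intro h1
    apply hip
    rw [← h1, Equiv.apply_symm_apply]

/-- an element with trace 8 -/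
theorem norm_eight {v : leechLattice} (hv : sqNorm (v : GolayPt → ℤ) = 48) {w : Co0} (hw : w • v = v) {g : Co0}
    {c : golayCode} (hg : g * w * g⁻¹ = signCo0 c) (hc : wt c = 8) :
    ∃ h : Co0, h * w * h⁻¹ = signCo0 (cd o0) ∧ ((h • v : leechLattice) : GolayPt → ℤ) = v0 := by
  -- the octad of the vector
  have hy0v := (sign_fixed_iff c (g • v)).1 (by rw [← hg, ← mul_smul, inv_mul_cancel_right, mul_smul, hw])
  obtain ⟨b, hb, hbc, hd, -, h2, p, hpb, hpc, h4, h0⟩ :=
    ThreeShape.octad (g • v).2 (by rw [sqNorm_smul, hv]) hy0v hc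
  have hS : Shape b p ((g • v : leechLattice) : GolayPt → ℤ) := ⟨h2, hpb, h4, h0⟩
  obtain ⟨m, hm1, hm2⟩ := exists_pair (c := b) (d := c) (c' := cd b0) (d' := cd o0) hb hc wt_b0 wt_o0
    (by rw [hbc, wt_bo])
  set g2 : Co0 := permCo0 m * g with hg2
  have hw2 : g2 * w * g2⁻¹ = signCo0 (cd o0) := by
    rw [← hm2, ← perm_mul_sign_mul_inv, ← hg, hg2]
    group
  have hS2 : Shape (cd b0) ((m : Equiv.Perm GolayPt) p) ((g2 • v : leechLattice) : GolayPt → ℤ) := by
    have := hS.perm m
    rw [hm1] at this
    rwa [hg2, mul_smul, permCo0_smul]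
  -- the point
  have hp2 : (m : Equiv.Perm GolayPt) p ∉ sup (cd o0) := by
    rw [← hm2, mem_sup, wordPerm_apply, Equiv.symm_apply_apply, ← mem_sup]
    exact hpc
  have hbit : ∀ {n : ℕ}, isCode n = true → ∀ q : GolayPt, q ∉ sup (cd n) → n.testBit (idx q) = false := by
    intro n hn q hq
    rw [sup_cd hn, Bool.not_eq_true] at hq
    exact hq
  obtain ⟨e, he, hep⟩ := pts8 _ (hbit code_o0 _ hp2) (hbit code_b0 _ hS2.not)
  obtain ⟨e1, e2, e3, e4⟩ := perm8 e he
  set g3 : Co0 := permCo0 (el e.2) * g2 with hg3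
  have hw3 : g3 * w * g3⁻¹ = signCo0 (cd o0) := by
    have h5 : wordPerm (el e.2) (cd o0) = cd o0 := by rw [wordPerm_cd e1 code_o0, e2]
    have h6 := perm_mul_sign_mul_inv (el e.2) (cd o0)
    rw [h5, ← hw2] at h6
    rw [← hw2, ← h6, hg3]
    group
  have hp3 : (el e.2 : Equiv.Perm GolayPt) ((m : Equiv.Perm GolayPt) p) = pt 5 := by
    apply idx_injective
    rw [coe_el e1, idx_permOf, hep, e4]
    decide +kernel
  have hS3 : Shape (cd b0) (pt 5) ((g3 • v : leechLattice) : GolayPt → ℤ) := by
    have := hS2.perm (el e.2)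
    rw [wordPerm_cd e1 code_b0, e3, hp3] at this
    rwa [hg3, mul_smul, permCo0_smul]
  -- signs
  set y : leechLattice := g3 • v with hy
  have v0b : ∀ q : GolayPt, b0.testBit (idx q) = true → v0 q = 2 ∨ v0 q = -2 := by
    intro q hq
    unfold v0
    rw [if_pos hq]
    split_ifs <;> simp
  obtain ⟨s, hs⟩ := exists_sign chkW8 (y : GolayPt → ℤ) v0 (by
    intro a ha
    have hcase : b0.testBit (idx (pt a.1)) = true ∨ pt a.1 = pt 5 := by
      revert ha
      revert a
      decide +kernel
    rcases hcase with h | h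
    · have h7 := hS3.two (pt a.1) ((sup_cd code_b0 _).2 h)
      have h8 := v0b _ h
      omega
    · rw [h]
      have h7 := hS3.four
      have h8 : v0 (pt 5) = 4 := by decide +kernel
      omega)
  refine ⟨signCo0 s * g3, ?_, ?_⟩
  · have : signCo0 s * g3 * w * (signCo0 s * g3)⁻¹ = signCo0 s * (g3 * w * g3⁻¹) * (signCo0 s)⁻¹ := by group
    rw [this, hw3, ← signCo0_add, add_comm, signCo0_add, mul_inv_cancel_right]
  · set z : leechLattice := (signCo0 s * g3) • v with hz
    have hzv : (z : GolayPt → ℤ) = signMap s (y : GolayPt → ℤ) := by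
      rw [hz, mul_smul, ← hy, signCo0_smul]
    have hzf : signCo0 (cd o0) • z = z := by
      have e : signCo0 (cd o0) * (signCo0 s * g3) = signCo0 s * g3 * w := by
        rw [← mul_assoc, ← signCo0_add, add_comm, signCo0_add, mul_assoc, ← hw3, mul_assoc]
        group
      rw [hz, ← mul_smul, e, mul_smul, hw]
    obtain ⟨-, -, -, -, h8, -, -⟩ := ThreeShape.octad z.2 (by rw [hz, sqNorm_smul, hv])
      ((sign_fixed_iff _ _).1 hzf) wt_o0
    have hne : ∀ i, i ≠ pt 6 → (z : GolayPt → ℤ) i = v0 i := by
      intro i hi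
      by_cases hb : b0.testBit (idx i) = true ∨ i = pt 5
      · obtain ⟨a, ha, rfl⟩ := ptsW8 i hb hi
        rw [hzv]
        exact hs a ha
      · rw [not_or, Bool.not_eq_true] at hb
        have h9 : v0 i = 0 := by
          unfold v0
          rw [hb.1]
          have : idx i ≠ 5 := fun h => hb.2 (idx_injective (h.trans (by decide +kernel)))
          rw [if_neg (by simp), if_neg this]
        rw [h9, hzv, signMap_apply, hS3.zero i (fun h => by rw [sup_cd code_b0, hb.1] at h; simp at h) hb.2,
          mul_zero]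
    have h6' : (z : GolayPt → ℤ) (pt 6) = 2 ∨ (z : GolayPt → ℤ) (pt 6) = -2 := by
      have h10 := hS3.two (pt 6) ((sup_cd code_b0 _).2 (by decide +kernel))
      rw [hzv, signMap_apply]
      rcases Cfsg.Agent.SporadicStructure.LeechBase.zmod2_cases ((s : GolayPt → ZMod 2) (pt 6)) with h | h
      · rw [h, sgn_zero]; omega
      · rw [h, sgn_one]; omega
    have hsum : ∑ i, (z : GolayPt → ℤ) i = (z : GolayPt → ℤ) (pt 6) + 18 := by
      rw [← sum_v0]
      refine Finset.sum_congr rfl fun i _ => ?_
      by_cases hi : i = pt 6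
      · rw [if_pos hi, hi]
      · rw [if_neg hi, hne i hi]
    funext i
    by_cases hi : i = pt 6
    · subst hi
      have : v0 (pt 6) = -2 := by decide +kernel
      rw [this]
      rcases h6' with h | h
      · exfalso
        rw [hsum, h] at h8
        norm_num at h8
      · exact h
    · exact hne i hi

/-- the involutions of the stabiliser of a vector of norm 48 -/
theorem cases {v : leechLattice} (hv : sqNorm (v : GolayPt → ℤ) = 48) {w : Co0} (hw : w • v = v) (hww : w * w = 1)
    (h1 : w ≠ 1) :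
    (∃ h : Co0, h * w * h⁻¹ = signCo0 (cd d0) ∧ ((h • v : leechLattice) : GolayPt → ℤ) = x0) ∨
      ∃ h : Co0, h * w * h⁻¹ = signCo0 (cd o0) ∧ ((h • v : leechLattice) : GolayPt → ℤ) = v0 := by
  obtain ⟨g, c, hg⟩ := Cfsg.Agent.CoOneType.InvMain.conj_sign_of_sq_one w hww
  rcases Cfsg.Agent.CoOneType.SignFacts.wt_cases c with hc | hc | hc | hc | hc
  · exfalso
    apply h1
    have h2 : c = 0 := by
      apply sup_inj
      rw [Finset.card_eq_zero.1 (show (sup c).card = 0 from hc)]
      symm
      rw [Finset.eq_empty_iff_forall_notMem]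
      intro p hp
      rw [mem_sup] at hp
      exact zero_ne_one hp
    have h3 : w = g⁻¹ * signCo0 c * g := by rw [← hg]; group
    rw [h3, h2, signCo0_zero]
    group
  · right
    exact norm_eight hv hw hg hc
  · left
    exact norm_zero hv hw hg hc
  all_goals
    exfalso
    have hy0 := (sign_fixed_iff c (g • v)).1 (by rw [← hg, ← mul_smul, inv_mul_cancel_right, mul_smul, hw])
    exact ThreeShape.large (g • v).2 (by rw [sqNorm_smul, hv]) hy0 (by omega)

end Cfsg.Agent.KFacts.CoInv.ThreeNorm
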