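import Mathlib
import Cfsg.Agent.Lib.NormalAbelian

/-!
# Tools for the centralisers of involutions (helper927)
-/

set_option autoImplicit false

namespace Cfsg.Agent.KFacts.CoInv.Tools

open Subgroup

variable {K : Type*} [Group K]

/-- A subgroup `N > ⟨w⟩` normal in a 2-group `T` contains an element outside `⟨w⟩` which is central modulo `⟨w⟩`. -/
theorem exists_central_mod [Finite K] {T N : Subgroup K} {w : K} (hT : IsPGroup 2 T) (hNT : N ≤ T)
    (hn : ∀ t ∈ T, ∀ x ∈ N, t * x * t⁻¹ ∈ N) (hw : w ∈ T) (hc : ∀ t ∈ T, t * w = w * t)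
    (hx : ¬ N ≤ zpowers w) :
    ∃ x ∈ N, x ∉ zpowers w ∧ ∀ t ∈ T, x * t * x⁻¹ * t⁻¹ ∈ zpowers w := by
  have hnil : Group.IsNilpotent T := hT.isNilpotent
  have hA : ((zpowers w).subgroupOf T).Normal := by
    constructor
    rintro ⟨n, hnT⟩ hn' ⟨g, hg⟩
    rw [mem_subgroupOf] at hn' ⊢
    obtain ⟨k, hk⟩ := mem_zpowers_iff.1 hn'
    have hk' : w ^ k = n := hk
    have h2 : Commute g w := hc g hg
    show g * n * g⁻¹ ∈ zpowers w
    rw [← hk', (h2.zpow_right k).eq, mul_inv_cancel_right]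
    exact zpow_mem (mem_zpowers w) k
  have hC : (N.subgroupOf T).Normal := by
    constructor
    rintro ⟨n, hnT⟩ hn' ⟨g, hg⟩
    exact hn g hg n hn'
  have hAC : ¬ N.subgroupOf T ≤ (zpowers w).subgroupOf T := by
    intro h
    exact hx fun x hx' => h (show (⟨x, hNT hx'⟩ : T) ∈ N.subgroupOf T from hx')
  obtain ⟨x, hxN, hxA, hxc⟩ := Cfsg.Agent.Lib.NormalAbelian.exists_mem_not_mem_central_mod hA hC hAC
  exact ⟨x, hxN, hxA, fun t ht => hxc ⟨t, ht⟩⟩

/-- An element of order 2 acting without fixed points on a finite group of odd order inverts it. -/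
theorem inv_of_fpf [Finite K] {D : Subgroup K} {u : K} (hu : u * u = 1)
    (hn : ∀ d ∈ D, u * d * u⁻¹ ∈ D) (h1 : ∀ d ∈ D, u * d = d * u → d = 1) :
    ∀ d ∈ D, u * d * u⁻¹ = d⁻¹ := by
  let φ : D →* D := ((MulAut.conj u).toMonoidHom.comp D.subtype).codRestrict D (fun d => hn d d.2)
  have hφ : ∀ d : D, ((φ d : D) : K) = u * d * u⁻¹ := fun d => rfl
  have hui : u⁻¹ = u := inv_eq_of_mul_eq_one_left hu
  have hf : MonoidHom.FixedPointFree φ := by
    intro d hd
    have h2 := congrArg Subtype.val hd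
    rw [hφ] at h2
    apply Subtype.ext
    exact h1 d d.2 (mul_inv_eq_iff_eq_mul.1 h2)
  have hi : Function.Involutive φ := by
    intro d
    apply Subtype.ext
    rw [hφ, hφ, hui]
    calc u * (u * (d : K) * u) * u = (u * u) * d * (u * u) := by group
      _ = d := by rw [hu, one_mul, mul_one]
  intro d hd
  have h3 := congrFun (hf.coe_eq_inv_of_involutive hi) ⟨d, hd⟩
  have h4 := congrArg Subtype.val h3
  exact h4

/-- A subgroup of odd order is trivial if `u`, `v`, `u v` act on it without fixed points. -/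
theorem eq_one_of_fpf [Finite K] {D : Subgroup K} {u v : K} (hu : u * u = 1) (hv : v * v = 1)
    (hun : ∀ d ∈ D, u * d * u⁻¹ ∈ D) (hvn : ∀ d ∈ D, v * d * v⁻¹ ∈ D)
    (h1 : ∀ d ∈ D, u * d = d * u → d = 1) (h2 : ∀ d ∈ D, v * d = d * v → d = 1)
    (h3 : ∀ d ∈ D, (u * v) * d = d * (u * v) → d = 1) : D = ⊥ := by
  rw [eq_bot_iff]
  intro d hd
  rw [mem_bot]
  apply h3 d hd
  have e1 := inv_of_fpf hu hun h1
  have e2 := inv_of_fpf hv hvn h2
  have e3 : u * (v * d * v⁻¹) * u⁻¹ = d := by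
    rw [e2 d hd, e1 _ (D.inv_mem hd), inv_inv]
  calc u * v * d = (u * (v * d * v⁻¹) * u⁻¹) * (u * v) := by group
    _ = d * (u * v) := by rw [e3]

end Cfsg.Agent.KFacts.CoInv.Tools
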