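import Cfsg.Agent.KFacts.CoInv.TwoMono
import Cfsg.Agent.KFacts.CoInv.Tools
import Cfsg.Agent.OddHalf.D4.Basic
import Cfsg.Agent.KFacts.CoInv.SheetTwo

/-!
# The centralisers of the involutions of `Spor.Co2` (helper927)

* `core_eq_bot`: no normal subgroup of odd order in the centraliser of an involution;
* `normal_cases`: a normal subgroup of `C(w)` containing the involution `w` (not 2-central) is `⟨w⟩` or contains a
  2-central involution;
* `center_cases`: the involutions in the centre of `C(w)`.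
-/

set_option autoImplicit false
set_option linter.dupNamespace false

namespace Cfsg.Agent.KFacts.CoInv.TwoCent

open Cfsg Cfsg.Agent.SporadicA.GolayBase Cfsg.Agent.SporadicA.GolayPerm
open Cfsg.Agent.SporadicStructure.M24El
open Cfsg.Agent.Co2Type.Mono Cfsg.Agent.Co2Type.TGroup Cfsg.Agent.Co2Type.TData Cfsg.Agent.Co2Type.FactsD
open Cfsg.Agent.Co2Type.TCard Cfsg.Agent.Co2Type.Facts Cfsg.Agent.Co2Type.FactsCo2
open Cfsg.Agent.KFacts.CoInv.TwoMono

instance finCo2 : Finite Spor.Co2 := Nat.finite_of_card_ne_zero (by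
  rw [Cfsg.Agent.Co2Type.CardCo2.card_co2]; norm_num)

/-! ### `E` and the monomial elements -/

theorem mono_conj_E {m Q n : ℕ} (hm : inE m = true) (hQ : okP Q = true) (hlt : Q < 2 ^ 120) (hn : inE n = true) :
    mo2 m Q * ge n * (mo2 m Q)⁻¹ = ge (pimg Q n) := by
  unfold ge
  rw [mo2_conj_E hm hn hQ hlt, mul_assoc, mul_inv_cancel, mul_one]

theorem v12 : popcount mv = 12 := by decide +kernel

/-- `C(E) = E` -/
theorem mem_E_of_comm {g : Spor.Co2} (h : ∀ n, inE n = true → g * ge n = ge n * g) : g ∈ E := by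
  obtain ⟨m, Q, hm, hQ, hlt, -, rfl⟩ := mono_of_comm iv v12 (h mv iv)
  have hid : Q = idP := by
    apply idP_of_mod hQ hlt
    intro e he
    left
    have h1 := mono_conj_E hm hQ hlt he
    rw [h e he, mul_inv_cancel_right] at h1
    exact (ge_inj he (inE_pimg hQ he) h1).symm
  subst hid
  exact mo2_mem_E hm

theorem E_inf_odd {D : Subgroup Spor.Co2} (hodd : ¬ 2 ∣ Nat.card D) {x : Spor.Co2} (hx : x ∈ E) (hD : x ∈ D) :
    x = 1 := by
  by_contra hne
  have h2 : orderOf x = 2 := by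
    rw [orderOf_eq_prime_iff]
    exact ⟨by rw [pow_two, Cfsg.Agent.Co2Type.FactsD.E_sq x hx], hne⟩
  apply hodd
  have h3 : orderOf (⟨x, hD⟩ : D) = 2 := by rw [← h2]; exact Subgroup.orderOf_mk x hD
  rw [← h3]
  exact orderOf_dvd_natCard _

/-- An element of a subgroup of odd order normalised by `E` commuting with a dodecad sign change is trivial. -/
theorem fpf {D : Subgroup Spor.Co2} (hodd : ¬ 2 ∣ Nat.card D)
    (hE : ∀ n, inE n = true → ∀ d ∈ D, ge n * d * (ge n)⁻¹ ∈ D) {n : ℕ} (hn : inE n = true)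
    (h12 : popcount n = 12) {d : Spor.Co2} (hd : d ∈ D) (h : ge n * d = d * ge n) : d = 1 := by
  obtain ⟨m, Q, hm, hQ, hlt, -, rfl⟩ := mono_of_comm hn h12 h.symm
  have hcE : mo2 m Q ∈ E := by
    apply mem_E_of_comm
    intro e he
    have h1 : ge e * mo2 m Q * (ge e)⁻¹ * (mo2 m Q)⁻¹ ∈ D := D.mul_mem (hE e he _ hd) (D.inv_mem hd)
    have h2 : ge e * mo2 m Q * (ge e)⁻¹ * (mo2 m Q)⁻¹ ∈ E := by
      have h3 := mono_conj_E hm hQ hlt he
      have h4 : ge e * mo2 m Q * (ge e)⁻¹ * (mo2 m Q)⁻¹ = ge e * (mo2 m Q * ge e * (mo2 m Q)⁻¹)⁻¹ := by group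
      rw [h4, h3]
      exact E.mul_mem (ge_mem he) (E.inv_mem (ge_mem (inE_pimg hQ he)))
    have h5 := E_inf_odd hodd h2 h1
    have h6 : ge e * mo2 m Q * (ge e)⁻¹ = mo2 m Q := by
      calc ge e * mo2 m Q * (ge e)⁻¹ = (ge e * mo2 m Q * (ge e)⁻¹ * (mo2 m Q)⁻¹) * mo2 m Q := by group
        _ = mo2 m Q := by rw [h5, one_mul]
    exact (mul_inv_eq_iff_eq_mul.1 h6).symm
  exact E_inf_odd hodd hcE hd

theorem dod : (inE 2076750 && inE 8024242 && Nat.beq (popcount 2076750) 12 && Nat.beq (popcount 8024242) 12 &&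
    Nat.beq (popcount (Nat.xor 2076750 8024242)) 12) = true := by decide +kernel

/-- A subgroup of odd order normalised by `E` is trivial. -/
theorem odd_eq_bot {D : Subgroup Spor.Co2} (hodd : ¬ 2 ∣ Nat.card D)
    (hE : ∀ n, inE n = true → ∀ d ∈ D, ge n * d * (ge n)⁻¹ ∈ D) : D = ⊥ := by
  have h0 := dod
  simp only [Bool.and_eq_true, Nat.beq_eq] at h0
  obtain ⟨⟨⟨⟨a1, a2⟩, a3⟩, a4⟩, a5⟩ := h0
  refine Tools.eq_one_of_fpf (ge_sq a1) (ge_sq a2) (hE _ a1) (hE _ a2)
    (fun d hd h => fpf hodd hE a1 a3 hd h) (fun d hd h => fpf hodd hE a2 a4 hd h) ?_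
  intro d hd h
  rw [ge_mul a1 a2] at h
  exact fpf hodd hE (inE_xor a1 a2) a5 hd h

/-! ### conjugates in `E` -/

theorem exists_conj_ge {w : Spor.Co2} (hw : w * w = 1) (h1 : w ≠ 1) :
    ∃ g : Spor.Co2, ∃ n, (n = mz ∨ n = my ∨ n = mv) ∧ g * w * g⁻¹ = ge n := by
  have key : ∀ n, IsConj (ge n) w → ∃ g : Spor.Co2, g * w * g⁻¹ = ge n := fun n h => by
    obtain ⟨c, hc⟩ := isConj_iff.1 h.symm
    exact ⟨c, hc⟩
  rcases Cfsg.Agent.Co2Type.FactsClass.classes hw h1 with h | h | h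
  · obtain ⟨g, hg⟩ := key _ h
    exact ⟨g, mz, Or.inl rfl, hg⟩
  · obtain ⟨g, hg⟩ := key _ h
    exact ⟨g, my, Or.inr (Or.inl rfl), hg⟩
  · obtain ⟨g, hg⟩ := key _ h
    exact ⟨g, mv, Or.inr (Or.inr rfl), hg⟩

theorem inE_cases {n : ℕ} (h : n = mz ∨ n = my ∨ n = mv) : inE n = true := by
  rcases h with rfl | rfl | rfl
  · exact iz
  · exact iy
  · exact iv

/-- No normal subgroup of odd order in the centraliser of an involution. -/
theorem core_eq_bot {w : Spor.Co2} (hw : w * w = 1) (h1 : w ≠ 1) {D : Subgroup Spor.Co2}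
    (hodd : ¬ 2 ∣ Nat.card D) (hn : ∀ g, g * w = w * g → ∀ d ∈ D, g * d * g⁻¹ ∈ D) : D = ⊥ := by
  obtain ⟨g, n, hn', hg⟩ := exists_conj_ge hw h1
  have hin := inE_cases hn'
  have hD : D.map (MulAut.conj g).toMonoidHom = ⊥ := by
    apply odd_eq_bot
    · rwa [Subgroup.card_map_of_injective (MulAut.conj g).injective]
    · rintro m hm _ ⟨d, hd, rfl⟩
      refine ⟨g⁻¹ * ge m * g * d * (g⁻¹ * ge m * g)⁻¹, hn _ ?_ d hd, ?_⟩
      · have h2 : w = g⁻¹ * ge n * g := by rw [← hg]; group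
        have h3 : ge m * ge n = ge n * ge m := Cfsg.Agent.Co2Type.FactsD.E_comm _ (ge_mem hm) _ (ge_mem hin)
        calc g⁻¹ * ge m * g * w = g⁻¹ * (ge m * ge n) * g := by rw [h2]; group
          _ = w * (g⁻¹ * ge m * g) := by rw [h3, h2]; group
      · show g * (g⁻¹ * ge m * g * d * (g⁻¹ * ge m * g)⁻¹) * g⁻¹ = ge m * (g * d * g⁻¹) * (ge m)⁻¹
        group
  rw [Subgroup.map_eq_bot_iff_of_injective _ (MulAut.conj g).injective] at hD
  exact hD

/-! ### Sylow subgroups -/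

theorem mem_zpowers_sq {H : Type*} [Group H] {a x : H} (ha : a * a = 1) (h : x ∈ Subgroup.zpowers a) : x = 1 ∨ x = a := by
  obtain ⟨k, rfl⟩ := Subgroup.mem_zpowers_iff.1 h
  rcases Int.even_or_odd' k with ⟨l, rfl | rfl⟩
  · left
    rw [zpow_mul, zpow_two, ha, one_zpow]
  · right
    rw [zpow_add, zpow_mul, zpow_two, ha, one_zpow, one_mul, zpow_one]

/-- a Sylow 2-subgroup is conjugate to `T` -/
theorem exists_smul_T (S : Sylow 2 Spor.Co2) :
    ∃ g : Spor.Co2, ∀ x, x ∈ (S : Subgroup Spor.Co2) ↔ g * x * g⁻¹ ∈ T := by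
  have : Fact (Nat.Prime 2) := ⟨Nat.prime_two⟩
  obtain ⟨g, hg⟩ := MulAction.exists_smul_eq Spor.Co2 S Cfsg.Agent.Co2Type.FactsClass.TSyl
  refine ⟨g, fun x => ?_⟩
  have h1 : ((g • S : Sylow 2 Spor.Co2) : Subgroup Spor.Co2) = T := by rw [hg]; rfl
  rw [Sylow.coe_subgroup_smul] at h1
  rw [← h1]
  constructor
  · intro hx
    exact ⟨x, hx, rfl⟩
  · rintro ⟨y, hy, he⟩
    have he' : g * y * g⁻¹ = g * x * g⁻¹ := he
    have : y = x := by
      have h2 := congrArg (fun u => g⁻¹ * u * g) he'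
      simpa [mul_assoc] using h2
    exact this ▸ hy

/-- the involution in the centre of a Sylow 2-subgroup is unique -/
theorem z1 (S : Sylow 2 Spor.Co2) (a : Spor.Co2) (ha : a ∈ S) (_ : a * a = 1) (ha1 : a ≠ 1)
    (hac : ∀ s ∈ S, s * a = a * s) (b : Spor.Co2) (hb : b ∈ S) (_ : b * b = 1) (hb1 : b ≠ 1)
    (hbc : ∀ s ∈ S, s * b = b * s) : a = b := by
  obtain ⟨g, hg⟩ := exists_smul_T S
  have key : ∀ c : Spor.Co2, c ∈ S → c ≠ 1 → (∀ s ∈ S, s * c = c * s) → g * c * g⁻¹ = ge mz := by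
    intro c hc hc1 hcc
    have h0 : g * c * g⁻¹ = 1 ∨ g * c * g⁻¹ = ge mz := by
      apply center_T (g * c * g⁻¹) ((hg c).1 hc)
      intro s hs
      have h2 : g⁻¹ * s * g ∈ (S : Subgroup Spor.Co2) := by
        rw [hg]
        have : g * (g⁻¹ * s * g) * g⁻¹ = s := by group
        rwa [this]
      have h3 := hcc _ h2
      calc s * (g * c * g⁻¹) = g * ((g⁻¹ * s * g) * c) * g⁻¹ := by group
        _ = g * (c * (g⁻¹ * s * g)) * g⁻¹ := by rw [h3]
        _ = g * c * g⁻¹ * s := by group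
    rcases h0 with h | h
    · exfalso
      apply hc1
      have h2 := congrArg (fun u => g⁻¹ * u * g) h
      simpa [mul_assoc] using h2
    · exact h
  have h1 := (key a ha ha1 hac).trans (key b hb hb1 hbc).symm
  have h2 := congrArg (fun u => g⁻¹ * u * g) h1
  simpa [mul_assoc] using h2

/-- the involutions of the class of `ge mz` centralise a Sylow 2-subgroup -/
theorem cen_of_isConj {a : Spor.Co2} (h : IsConj (ge mz) a) : OddHalf.D4.Spor.Cen a := by
  obtain ⟨c, rfl⟩ := isConj_iff.1 h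
  refine ⟨c • Cfsg.Agent.Co2Type.FactsClass.TSyl, ?_⟩
  intro s hs
  have hs' : s ∈ ((c • Cfsg.Agent.Co2Type.FactsClass.TSyl : Sylow 2 Spor.Co2) : Subgroup Spor.Co2) := hs
  rw [Sylow.coe_subgroup_smul] at hs'
  obtain ⟨t, ht, rfl⟩ := hs'
  have h1 := z_comm t ht
  show c * t * c⁻¹ * (c * ge mz * c⁻¹) = c * ge mz * c⁻¹ * (c * t * c⁻¹)
  calc c * t * c⁻¹ * (c * ge mz * c⁻¹) = c * (t * ge mz) * c⁻¹ := by group
    _ = c * ge mz * c⁻¹ * (c * t * c⁻¹) := by rw [h1]; group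

theorem isSyl_y : OddHalf.D4.Basic.IsSyl (cent T (ge my)) (Subgroup.centralizer {ge my}) where
  two := Cfsg.Agent.Co2Type.FactsClass.isPGroup_T.to_le inf_le_left
  le := inf_le_right
  max := by
    have : Fact (Nat.Prime 2) := ⟨Nat.prime_two⟩
    intro Q hQ hle hQC
    by_contra hcon
    obtain ⟨S, hS⟩ := hQ.exists_le_sylow
    obtain ⟨g, hg⟩ := exists_smul_T S
    have hcS : Nat.card (S : Subgroup Spor.Co2) = 2 ^ 18 := by
      rw [← card_T]
      have h1 : (S : Subgroup Spor.Co2).map (MulAut.conj g).toMonoidHom = T := by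
        ext x
        constructor
        · rintro ⟨y, hy, rfl⟩
          exact (hg y).1 hy
        · intro hx
          refine ⟨g⁻¹ * x * g, (hg _).2 ?_, ?_⟩
          · have : g * (g⁻¹ * x * g) * g⁻¹ = x := by group
            rwa [this]
          · show g * (g⁻¹ * x * g) * g⁻¹ = x
            group
      rw [← h1, Subgroup.card_map_of_injective (MulAut.conj g).injective]
    obtain ⟨n, hn⟩ := IsPGroup.iff_card.1 hQ
    have hlt : Nat.card (cent T (ge my)) < Nat.card Q := by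
      apply lt_of_le_of_ne (Subgroup.card_le_of_le hle)
      intro h
      exact hcon (Subgroup.eq_of_le_of_card_ge hle h.ge).ge
    have hge : Nat.card Q ≤ Nat.card (S : Subgroup Spor.Co2) := Subgroup.card_le_of_le hS
    rw [cardy, hn] at hlt
    rw [hcS, hn] at hge
    have h17 : 17 < n := (Nat.pow_lt_pow_iff_right (by norm_num)).1 hlt
    have h18 : n ≤ 18 := (Nat.pow_le_pow_iff_right (by norm_num)).1 hge
    have hn18 : n = 18 := by omega
    have hQS : Q = (S : Subgroup Spor.Co2) := Subgroup.eq_of_le_of_card_ge hS (by rw [hn, hcS, hn18])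
    have hyT : ge my ∈ cent T (ge my) := ⟨ge_mem_T iy, Subgroup.mem_centralizer_singleton_iff.2 rfl⟩
    have hyS : ge my ∈ (S : Subgroup Spor.Co2) := hS (hle hyT)
    have hy2 : g * ge my * g⁻¹ = 1 ∨ g * ge my * g⁻¹ = ge mz := by
      apply center_T _ ((hg _).1 hyS)
      intro s hs
      have h2 : g⁻¹ * s * g ∈ (S : Subgroup Spor.Co2) := by
        rw [hg]
        have : g * (g⁻¹ * s * g) * g⁻¹ = s := by group
        rwa [this]
      have h3 : (g⁻¹ * s * g) * ge my = ge my * (g⁻¹ * s * g) :=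
        Subgroup.mem_centralizer_singleton_iff.1 (hQC (hQS ▸ h2))
      calc s * (g * ge my * g⁻¹) = g * ((g⁻¹ * s * g) * ge my) * g⁻¹ := by group
        _ = g * (ge my * (g⁻¹ * s * g)) * g⁻¹ := by rw [h3]
        _ = g * ge my * g⁻¹ * s := by group
    rcases hy2 with h | h
    · have h2 : ge my = 1 := by
        have h2 := congrArg (fun u => g⁻¹ * u * g) h
        simpa [mul_assoc] using h2
      exact facts.y_ne h2
    · exact facts.not_zy ((isConj_iff.2 ⟨g, h⟩).symm)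

/-! ### the normal subgroups of the centralisers -/

/-- candidates for a word of weight 16 -/
def cand (w hA hB m : ℕ) : List ℕ :=
  [m, Nat.xor m w, Nat.xor m (pimg hA m), Nat.xor (Nat.xor m (pimg hA m)) w,
    Nat.xor (Nat.xor m (pimg hA m)) (pimg hB m), Nat.xor (Nat.xor (Nat.xor m (pimg hA m)) (pimg hB m)) w]

/-- the check -/
def chk (w hA hB : ℕ) (gw : List ℕ) : Bool :=
  (gw.all fun P => memL P L22 && Nat.beq (pimg P w) w) &&
  (okP hA && Nat.blt hA (2 ^ 120) && Nat.beq (pimg hA w) w && okP hB && Nat.blt hB (2 ^ 120) &&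
    Nat.beq (pimg hB w) w) &&
  allSp B10 (fun m => cond (gw.all fun P => Nat.beq (pimg P m) m || Nat.beq (pimg P m) (Nat.xor m w))
    (Nat.beq m 0 || Nat.beq m w || (cand w hA hB m).any fun k => Nat.beq (popcount k) 16) true) 0

/-- `N` is normal in the centraliser of `w` and contains `w` -/
structure Nm (w : Spor.Co2) (N : Subgroup Spor.Co2) : Prop where
  mem : w ∈ N
  norm : ∀ c : Spor.Co2, c * w = w * c → ∀ n ∈ N, c * n * c⁻¹ ∈ N

theorem Nm.img {w : ℕ} {N : Subgroup Spor.Co2} (h : Nm (ge w) N) (iw : inE w = true) {P m : ℕ} (hP : okP P = true)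
    (hlt : P < 2 ^ 120) (hw : pimg P w = w) (im : inE m = true) (hm : ge m ∈ N) : ge (pimg P m) ∈ N := by
  rw [← conj_ge hP hlt im rfl]
  apply h.norm _ _ _ hm
  have h1 := conj_ge hP hlt iw hw
  exact mul_inv_eq_iff_eq_mul.1 h1

theorem Nm.cand {w : ℕ} {N : Subgroup Spor.Co2} (h : Nm (ge w) N) (iw : inE w = true) {hA hB m : ℕ}
    (a1 : okP hA = true) (a2 : hA < 2 ^ 120) (a3 : pimg hA w = w) (b1 : okP hB = true) (b2 : hB < 2 ^ 120)
    (b3 : pimg hB w = w) (im : inE m = true) (hm : ge m ∈ N)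
    (hk : ((TwoCent.cand w hA hB m).any fun k => Nat.beq (popcount k) 16) = true) :
    ∃ a ∈ N, IsConj (ge mz) a := by
  have hx : ∀ a b, inE a = true → inE b = true → ge a ∈ N → ge b ∈ N →
      inE (Nat.xor a b) = true ∧ ge (Nat.xor a b) ∈ N := by
    intro a b ia ib ha hb
    refine ⟨inE_xor ia ib, ?_⟩
    show ge (a ^^^ b) ∈ N
    rw [← ge_mul ia ib]
    exact N.mul_mem ha hb
  have iA := inE_pimg a1 im
  have iB := inE_pimg b1 im
  have mA := h.img iw a1 a2 a3 im hm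
  have mB := h.img iw b1 b2 b3 im hm
  have c1 := hx m w im iw hm h.mem
  have c2 := hx m _ im iA hm mA
  have c3 := hx _ w c2.1 iw c2.2 h.mem
  have c4 := hx _ _ c2.1 iB c2.2 mB
  have c5 := hx _ w c4.1 iw c4.2 h.mem
  rw [List.any_eq_true] at hk
  obtain ⟨k, hk, hp⟩ := hk
  have hkk : inE k = true ∧ ge k ∈ N := by
    simp only [TwoCent.cand, List.mem_cons, List.not_mem_nil, or_false] at hk
    rcases hk with rfl | rfl | rfl | rfl | rfl | rfl
    · exact ⟨im, hm⟩
    · exact c1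
    · exact c2
    · exact c3
    · exact c4
    · exact c5
  refine ⟨ge k, hkk.2, (tr_eq_iff (ge_sq hkk.1)).2 ?_⟩
  show tr (mo2 k idP) = -8
  rw [Cfsg.Agent.Co2Type.FactsClass.tr_E hkk.1, Nat.eq_of_beq_eq_true hp]
  norm_num

/-- an element of `N ∩ E` central in `C_T(w)` modulo `⟨w⟩` -/
theorem Nm.step {w : ℕ} {N : Subgroup Spor.Co2} (h : Nm (ge w) N) (iw : inE w = true) {hA hB : ℕ} {gw : List ℕ}
    (hc : chk w hA hB gw = true) {m : ℕ} (im : inE m = true) (hm : ge m ∈ N) (hnot : ge m ∉ Subgroup.zpowers (ge w))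
    (hcen : ∀ t ∈ cent T (ge w), ge m * t * (ge m)⁻¹ * t⁻¹ ∈ Subgroup.zpowers (ge w)) :
    ∃ a ∈ N, IsConj (ge mz) a := by
  unfold chk at hc
  simp only [Bool.and_eq_true] at hc
  obtain ⟨⟨hg, ⟨⟨⟨⟨a1, a2⟩, a3⟩, b1⟩, b2⟩, b3⟩, hs⟩ := hc
  have h1 := allSp_zero hs (sp_B10 im)
  have h2 : (gw.all fun P => Nat.beq (pimg P m) m || Nat.beq (pimg P m) (Nat.xor m w)) = true := by
    rw [List.all_eq_true]
    intro P hP
    have h3 := List.all_eq_true.1 hg P hP
    rw [Bool.and_eq_true] at h3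
    have hPL : P ∈ L22 := memL_iff.1 h3.1
    have hPw := Nat.eq_of_beq_eq_true h3.2
    have h4 : mo2 0 P ∈ cent T (ge w) := (mem_cent_ge iw).2 ⟨0, P, inE_zero, hPL, hPw, rfl⟩
    have h5 := hcen _ h4
    have iP := inE_pimg (okP_of_mem hPL) im
    have h6 : ge m * mo2 0 P * (ge m)⁻¹ * (mo2 0 P)⁻¹ = ge (m ^^^ pimg P m) := by
      have e1 : mo2 0 P * (ge m)⁻¹ * (mo2 0 P)⁻¹ = (ge (pimg P m))⁻¹ := by
        rw [← conj_ge (okP_of_mem hPL) (lt_of_mem hPL) im rfl]
        group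
      have e2 : (ge (pimg P m))⁻¹ = ge (pimg P m) := inv_eq_of_mul_eq_one_left (ge_sq iP)
      calc ge m * mo2 0 P * (ge m)⁻¹ * (mo2 0 P)⁻¹ = ge m * (mo2 0 P * (ge m)⁻¹ * (mo2 0 P)⁻¹) := by group
        _ = ge (m ^^^ pimg P m) := by rw [e1, e2, ge_mul im iP]
    rw [h6] at h5
    rw [Bool.or_eq_true, Nat.beq_eq, Nat.beq_eq]
    rcases mem_zpowers_sq (ge_sq iw) h5 with h7 | h7
    · left
      rw [← ge_zero] at h7
      exact (Nat.xor_eq_zero_iff.1 (ge_inj (inE_xor im iP) inE_zero h7)).symm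
    · right
      have h8 := ge_inj (inE_xor im iP) iw h7
      show pimg P m = m ^^^ w
      rw [← h8, ← Nat.xor_assoc, Nat.xor_self, Nat.zero_xor]
  rw [h2, cond_true, Bool.or_eq_true, Bool.or_eq_true] at h1
  rcases h1 with (h1 | h1) | h1
  · exfalso
    apply hnot
    rw [Nat.eq_of_beq_eq_true h1, ge_zero]
    exact Subgroup.one_mem _
  · exfalso
    apply hnot
    rw [Nat.eq_of_beq_eq_true h1]
    exact Subgroup.mem_zpowers _
  · exact h.cand iw a1 (Nat.blt_eq.mp a2) (Nat.eq_of_beq_eq_true a3) b1 (Nat.blt_eq.mp b2)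
      (Nat.eq_of_beq_eq_true b3) im hm h1

theorem chkY : chk my 26860528965667031653534377207548183 idP
    [969037875715784401371134937987238176, 960108842030712955048694572935481632] = true := by decide +kernel

theorem chkV' : chk mv 13516488646928620268740224309665879 971108600461887292451486643650724992
    [968857869518658512448487429098915968] = true := by decide +kernel

/-- an element of `C_T(y)` trivial on `E` modulo `y` -/
theorem chkFy : (L22.all fun P => cond (Nat.beq (pimg P my) my && B10.all fun n =>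
    Nat.beq (pimg P n) n || Nat.beq (pimg P n) (Nat.xor n my)) (Nat.beq P idP) true) = true := by decide +kernel

theorem not_zpowers {a : Spor.Co2} (ha : a * a = 1) {N : Subgroup Spor.Co2} (h4 : 4 ∣ Nat.card N) :
    ¬ N ≤ Subgroup.zpowers a := by
  intro h
  have h1 := Subgroup.card_le_of_le h
  rw [Nat.card_zpowers] at h1
  have h2 : orderOf a ≤ 2 := orderOf_le_of_pow_eq_one (by norm_num) (by rw [pow_two, ha])
  have h3 := Nat.le_of_dvd Nat.card_pos h4
  omega

theorem Nm.y {N : Subgroup Spor.Co2} (h : Nm (ge my) N) (hle : ∀ n ∈ N, n * ge my = ge my * n)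
    (h4 : 4 ∣ Nat.card N) : ∃ a ∈ N, IsConj (ge mz) a := by
  have : Fact (Nat.Prime 2) := ⟨Nat.prime_two⟩
  have hNC : N ≤ Subgroup.centralizer {ge my} := fun n hn => Subgroup.mem_centralizer_singleton_iff.2 (hle n hn)
  have hTN : ∀ t ∈ cent T (ge my), ∀ n ∈ N, t * n * t⁻¹ ∈ N := fun t ht n hn =>
    h.norm t (Subgroup.mem_centralizer_singleton_iff.1 ht.2) n hn
  have hn1 : cent T (ge my) ≤ Subgroup.normalizer (N : Set Spor.Co2) := by
    intro t ht
    rw [Subgroup.mem_normalizer_iff]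
    intro n
    constructor
    · exact fun hn => hTN t ht n hn
    · intro hn
      have h1 := hTN _ ((cent T (ge my)).inv_mem ht) _ hn
      have e : t⁻¹ * (t * n * t⁻¹) * t⁻¹⁻¹ = n := by group
      rwa [e] at h1
  have hS := isSyl_y.inf hNC hn1
  obtain ⟨P, hP⟩ := hS.toSylow
  have h4' : 4 ∣ Nat.card (cent T (ge my) ⊓ N : Subgroup Spor.Co2) := by
    have h1 : 2 ^ 2 ∣ Nat.card (P : Subgroup N) := P.pow_dvd_card_of_pow_dvd_card (by norm_num; exact h4)
    rw [hP, Nat.card_congr (Subgroup.subgroupOfEquivOfLe inf_le_right).toEquiv] at h1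
    exact h1
  obtain ⟨x, hx, hx1, hxc⟩ := Tools.exists_central_mod (T := cent T (ge my)) (N := cent T (ge my) ⊓ N) (w := ge my)
    isSyl_y.two inf_le_left (fun t ht x hx => ⟨(cent T (ge my)).mul_mem ((cent T (ge my)).mul_mem ht hx.1)
      ((cent T (ge my)).inv_mem ht), hTN t ht x hx.2⟩) ⟨ge_mem_T iy, Subgroup.mem_centralizer_singleton_iff.2 rfl⟩
    (fun t ht => Subgroup.mem_centralizer_singleton_iff.1 ht.2) (not_zpowers (ge_sq iy) h4')
  obtain ⟨m, Q, hm, hQ, hQy, rfl⟩ := (mem_cent_ge iy).1 hx.1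
  have hid : Q = idP := by
    have h2 := List.all_eq_true.1 chkFy Q hQ
    have h3 : (Nat.beq (pimg Q my) my && B10.all fun n =>
        Nat.beq (pimg Q n) n || Nat.beq (pimg Q n) (Nat.xor n my)) = true := by
      rw [Bool.and_eq_true]
      refine ⟨Nat.beq_eq.mpr hQy, List.all_eq_true.2 fun n hn => ?_⟩
      have hn' : inE n = true := List.all_eq_true.1 chkB10 n hn
      have iP := inE_pimg (okP_of_mem hQ) hn'
      have h5 := hxc (ge n) ⟨ge_mem_T hn', Subgroup.mem_centralizer_singleton_iff.2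
        (Cfsg.Agent.Co2Type.FactsD.E_comm _ (ge_mem hn') _ (ge_mem iy))⟩
      rw [mono_conj_E hm (okP_of_mem hQ) (lt_of_mem hQ) hn', inv_eq_of_mul_eq_one_left (ge_sq hn'),
        ge_mul iP hn'] at h5
      rw [Bool.or_eq_true, Nat.beq_eq, Nat.beq_eq]
      rcases mem_zpowers_sq (ge_sq iy) h5 with h7 | h7
      · left
        rw [← ge_zero] at h7
        exact Nat.xor_eq_zero_iff.1 (ge_inj (inE_xor iP hn') inE_zero h7)
      · right
        have h8 := ge_inj (inE_xor iP hn') iy h7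
        show pimg Q n = n ^^^ my
        rw [← h8, Nat.xor_comm (pimg Q n) n, ← Nat.xor_assoc, Nat.xor_self, Nat.zero_xor]
    rw [h3, cond_true] at h2
    exact Nat.eq_of_beq_eq_true h2
  subst hid
  exact h.step iy chkY hm hx.2 hx1 hxc

theorem Nm.v {N : Subgroup Spor.Co2} (h : Nm (ge mv) N) (hle : ∀ n ∈ N, n * ge mv = ge mv * n)
    (h4 : 4 ∣ Nat.card N) : ∃ a ∈ N, IsConj (ge mz) a := by
  have hEc : ∀ n, inE n = true → ge n * ge mv = ge mv * ge n := fun n hn =>
    Cfsg.Agent.Co2Type.FactsD.E_comm _ (ge_mem hn) _ (ge_mem iv)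
  by_cases hN1 : E ⊓ N ≤ Subgroup.zpowers (ge mv)
  · exfalso
    apply not_zpowers (ge_sq iv) h4
    intro x hx
    apply hN1
    refine ⟨?_, hx⟩
    obtain ⟨m, Q, hm, hQ, hlt, hQv, rfl⟩ := mono_of_comm iv v12 (hle x hx)
    have hid : Q = idP := by
      apply idP_of_mod hQ hlt
      intro e he
      have iP := inE_pimg hQ he
      have h1 : mo2 m Q * ge e * (mo2 m Q)⁻¹ * (ge e)⁻¹ ∈ N := by
        have h2 : mo2 m Q * ge e * (mo2 m Q)⁻¹ * (ge e)⁻¹ = mo2 m Q * (ge e * (mo2 m Q)⁻¹ * (ge e)⁻¹) := by group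
        rw [h2]
        exact N.mul_mem hx (h.norm _ (hEc e he) _ (N.inv_mem hx))
      rw [mono_conj_E hm hQ hlt he, inv_eq_of_mul_eq_one_left (ge_sq he), ge_mul iP he] at h1
      have h5 := hN1 ⟨ge_mem (inE_xor iP he), h1⟩
      rcases mem_zpowers_sq (ge_sq iv) h5 with h7 | h7
      · left
        rw [← ge_zero] at h7
        exact Nat.xor_eq_zero_iff.1 (ge_inj (inE_xor iP he) inE_zero h7)
      · right
        have h8 := ge_inj (inE_xor iP he) iv h7
        rw [← h8, Nat.xor_comm (pimg Q e) e, ← Nat.xor_assoc, Nat.xor_self, Nat.zero_xor]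
    subst hid
    exact mo2_mem_E hm
  · obtain ⟨x, hx, hx1, hxc⟩ := Tools.exists_central_mod (T := cent T (ge mv)) (N := E ⊓ N) (w := ge mv)
      (Cfsg.Agent.Co2Type.FactsClass.isPGroup_T.to_le inf_le_left)
      (fun x hx => by
        obtain ⟨m, hm, rfl⟩ := mem_E_iff.1 hx.1
        exact ⟨E_le_T hx.1, Subgroup.mem_centralizer_singleton_iff.2 (hEc m hm)⟩)
      (fun t ht x hx => ⟨E_normal t ht.1 x hx.1,
        h.norm t (Subgroup.mem_centralizer_singleton_iff.1 ht.2) x hx.2⟩)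
      ⟨ge_mem_T iv, Subgroup.mem_centralizer_singleton_iff.2 rfl⟩
      (fun t ht => Subgroup.mem_centralizer_singleton_iff.1 ht.2) hN1
    obtain ⟨m, hm, rfl⟩ := mem_E_iff.1 hx.1
    exact h.step iv chkV' hm hx.2 hx1 hxc

/-! ### the facts -/

open OddHalf.D4.Spor in
theorem not_bad (w : Spor.Co2) (N : Subgroup Spor.Co2) : ¬ Bad w N := by
  intro hB
  obtain ⟨g, n, hn, hg⟩ := exists_conj_ge hB.sq hB.ne
  have hw : w = g⁻¹ * ge n * g := by rw [← hg]; group
  have key : ∃ a ∈ N.map (MulAut.conj g).toMonoidHom, IsConj (ge mz) a := by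
    have hle : ∀ x ∈ N.map (MulAut.conj g).toMonoidHom, x * ge n = ge n * x := by
      rintro _ ⟨x, hx, rfl⟩
      have h1 := hB.le x hx
      show g * x * g⁻¹ * ge n = ge n * (g * x * g⁻¹)
      rw [← hg]
      calc g * x * g⁻¹ * (g * w * g⁻¹) = g * (x * w) * g⁻¹ := by group
        _ = g * w * g⁻¹ * (g * x * g⁻¹) := by rw [h1]; group
    have hNm : Nm (ge n) (N.map (MulAut.conj g).toMonoidHom) := by
      refine ⟨⟨w, hB.mem, hg⟩, ?_⟩
      rintro c hc _ ⟨x, hx, rfl⟩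
      refine ⟨g⁻¹ * c * g * x * (g⁻¹ * c * g)⁻¹, hB.norm _ ?_ x hx, ?_⟩
      · calc g⁻¹ * c * g * w = g⁻¹ * (c * ge n) * g := by rw [hw]; group
          _ = w * (g⁻¹ * c * g) := by rw [hc, hw]; group
      · show g * (g⁻¹ * c * g * x * (g⁻¹ * c * g)⁻¹) * g⁻¹ = c * (g * x * g⁻¹) * c⁻¹
        group
    have h4 : 4 ∣ Nat.card (N.map (MulAut.conj g).toMonoidHom) := by
      rw [Subgroup.card_map_of_injective (MulAut.conj g).injective]
      exact hB.four
    rcases hn with rfl | rfl | rfl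
    · exact ⟨ge mz, hNm.mem, IsConj.refl _⟩
    · exact hNm.y hle h4
    · exact hNm.v hle h4
  obtain ⟨_, ⟨b, hb, rfl⟩, hc⟩ := key
  have hc' : IsConj (ge mz) b := hc.trans (isConj_iff.2 ⟨g⁻¹, by
    show g⁻¹ * (g * b * g⁻¹) * g⁻¹⁻¹ = b
    group⟩)
  have hsq := Cfsg.Agent.Co2Type.FactsD.sq_of_isConj (ge_sq iz) hc'
  refine hB.non b hb hsq ?_ (cen_of_isConj hc')
  rintro rfl
  obtain ⟨c, hcc⟩ := isConj_iff.1 hc'
  apply facts.z_ne
  have h2 := congrArg (fun u => c⁻¹ * u * c) hcc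
  simpa [mul_assoc] using h2

theorem bal (a : Spor.Co2) (ha : a * a = 1) (ha1 : a ≠ 1) (I : Subgroup Spor.Co2)
    (_ : ∀ i ∈ I, i * a = a * i) (hn : ∀ c : Spor.Co2, c * a = a * c → ∀ i ∈ I, c * i * c⁻¹ ∈ I)
    (hodd : Odd (Nat.card I)) : I = ⊥ :=
  core_eq_bot ha ha1 (fun h => by rw [Nat.odd_iff] at hodd; omega) hn

open OddHalf.D4.Spor in
/-- The fact sheet of `Co2`, from `Out(Co2) = 1`. -/
theorem sheet (h : ∀ α : MulAut Spor.Co2, Inn α) : Sheet Spor.Co2 where
  out := out_of_inn h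
  schreier := schreier_of_inn h
  sylAut := sylAut_of_inn h
  z1 := z1
  bal := bal
  out2 := out2_of_inn h
  tab := tab_of_not_bad not_bad

/-- The fact sheet of `Co2`, from `NoOut2 Co2` and the Schreier property. -/
theorem sheet_of_noOut2 (h : OutTwo.NoOut2 Spor.Co2)
    (hs : ∀ P : Subgroup (MulAut Spor.Co2), ⁅P, P⁆ = P → P ≤ (MulAut.conj : Spor.Co2 →* MulAut Spor.Co2).range) :
    OddHalf.D4.Spor.Sheet Spor.Co2 :=
  SheetTwo.sheet_of_noOut2 h hs z1 bal not_bad

theorem not_isMulCommutative : ¬ IsMulCommutative Spor.Co2 := by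
  intro hc
  have h1 := hc.is_comm.comm
  rcases center_T (ge my) (ge_mem_T iy) (fun s _ => h1 s (ge my)) with h2 | h2
  · exact facts.y_ne h2
  · exact facts.not_zy (h2 ▸ IsConj.refl _)

end Cfsg.Agent.KFacts.CoInv.TwoCent
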